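import Mathlib.Data.Int.Basic
import Mathlib.Data.List.Basic

/-!
Computable layer for the lattices `(a; b_1, …, b_δ)`: enumeration of classes and greedy descent to
the dominant chamber.
-/

namespace GrothLib.DPLat

/-- dot product of lists -/
def dot : List ℤ → List ℤ → ℤ
  | x :: xs, y :: ys => x * y + dot xs ys
  | _, _ => 0

/-- intersection form on coordinate lists -/
def lform : List ℤ → List ℤ → ℤ
  | x :: xs, y :: ys => x * y - dot xs ys
  | _, _ => 0

/-- `x + c • r` -/
def axpy (c : ℤ) : List ℤ → List ℤ → List ℤ
  | r :: rs, x :: xs => (x + c * r) :: axpy c rs xs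
  | _, _ => []

/-- first root negative on `x` -/
def negRoot : List (List ℤ) → List ℤ → Option (List ℤ)
  | [], _ => none
  | r :: rs, x => if lform r x < 0 then some r else negRoot rs x

/-- descent to the dominant chamber of the given roots -/
def dom (rs : List (List ℤ)) : ℕ → List ℤ → List ℤ
  | 0, x => x
  | n + 1, x => match negRoot rs x with
    | none => x
    | some r => dom rs n (axpy (lform r x) r x)

/-- possible values of the coefficients `b_i` of conic and exceptional classes -/
def bRng : List ℤ := (List.range 7).map fun i : ℕ => Int.subNatNat i 1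

/-- possible values of the coefficient `a` -/
def aRng : List ℤ := (List.range 13).map fun i : ℕ => Int.subNatNat i 1

/-- all lists with given sum and sum of squares with entries in `bRng`, where an entry flagged `true`
does not exceed the preceding one (`M` before the first). -/
def cands : List Bool → ℤ → ℤ → ℤ → List (List ℤ)
  | [], _, S, Q => if S = 0 ∧ Q = 0 then [[]] else []
  | c :: cs, M, S, Q =>
    if S * S ≤ ((cs.length + 1 : ℕ) : ℤ) * Q then
      (bRng.filter fun x => decide (x * x ≤ Q) && (!c || decide (x ≤ M))).flatMap fun x =>
        (cands cs x (S - x) (Q - x * x)).map (x :: ·)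
    else []

/-- classes with `v·v = p`, `K·v = q`, sorted as the flags prescribe -/
def classes (fl : List Bool) (p q : ℤ) : List (List ℤ) :=
  aRng.flatMap fun a => (cands fl 0 (q + 3 * a) (a * a - p)).map (a :: ·)

/-- `e_i - e_{i+1}` (`i` counted from zero) -/
def diffRoot (δ i : ℕ) : List ℤ :=
  0 :: (List.range δ).map fun j => if j = i then -1 else if j = i + 1 then 1 else 0

/-- `ℓ - e_1 - e_2 - e_3` -/
def triRoot (δ : ℕ) : List ℤ :=
  1 :: (List.range δ).map fun j => if j < 3 then 1 else 0

/-- simple roots -/
def simple (δ : ℕ) : List (List ℤ) :=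
  (List.range (δ - 1)).map (diffRoot δ) ++ if 3 ≤ δ then [triRoot δ] else []

/-- the simple roots orthogonal to all given classes -/
def perp (δ : ℕ) (us : List (List ℤ)) : List (List ℤ) :=
  (simple δ).filter fun r => us.all fun u => decide (lform r u = 0)

/-- position `i` may be required not to exceed position `i - 1` -/
def flags (δ : ℕ) (us : List (List ℤ)) : List Bool :=
  (List.range δ).map fun i => match i with
    | 0 => false
    | j + 1 => us.all fun u => decide (u.getD (j + 1) 0 = u.getD (j + 2) 0)

/-- no flags -/
def free (δ : ℕ) : List Bool := List.replicate δ false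

/-- `ℓ - e_1` -/
def conic0 (δ : ℕ) : List ℤ := 1 :: (List.range δ).map fun j => if j = 0 then 1 else 0

end GrothLib.DPLat
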