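import Mathlib
import Groth.Prelude.Def_W4c3severiratdpLat
import Groth.Agent.Lib.DPLat.Comp

/-!
Soundness of the computable layer: descent is realised by Weyl elements, enumeration is complete.
-/

namespace GrothLib.DPLat

open W4c3severiratdp

theorem dot_ofFn : ∀ {n : ℕ} (v w : Fin n → ℤ), dot (List.ofFn v) (List.ofFn w) = ∑ i, v i * w i
  | 0, v, w => by simp [dot]
  | n + 1, v, w => by
    rw [List.ofFn_succ, List.ofFn_succ, dot, dot_ofFn, Fin.sum_univ_succ]

theorem lform_ofFn {δ : ℕ} (v w : DP δ) : lform (List.ofFn v) (List.ofFn w) = form v w := by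
  rw [List.ofFn_succ, List.ofFn_succ, lform, dot_ofFn, form]

theorem axpy_ofFn (c : ℤ) : ∀ {n : ℕ} (r x : Fin n → ℤ),
    axpy c (List.ofFn r) (List.ofFn x) = List.ofFn (x + c • r)
  | 0, r, x => by simp [axpy]
  | n + 1, r, x => by
    rw [List.ofFn_succ, List.ofFn_succ, axpy, axpy_ofFn, List.ofFn_succ]
    simp only [Pi.add_apply, Pi.smul_apply, smul_eq_mul]
    rfl

theorem form_add_smul_right {δ : ℕ} (u v r : DP δ) (c : ℤ) :
    form u (v + c • r) = form u v + c * form u r := by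
  simp only [form, Pi.add_apply, Pi.smul_apply, smul_eq_mul, mul_add, Finset.sum_add_distrib,
    mul_sub, Finset.mul_sum]
  have : ∑ x : Fin δ, u x.succ * (c * r x.succ) = ∑ i : Fin δ, c * (u i.succ * r i.succ) :=
    Finset.sum_congr rfl fun i _ => by ring
  rw [this]
  ring

theorem form_comm {δ : ℕ} (v w : DP δ) : form v w = form w v := by
  simp [form, mul_comm]

/-- a root -/
def IsRoot {δ : ℕ} (r : DP δ) : Prop := form r r = -2 ∧ form (canon δ) r = 0

theorem refl_invol {δ : ℕ} {r : DP δ} (hr : form r r = -2) (v : DP δ) :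
    (v + form r v • r) + form r (v + form r v • r) • r = v := by
  rw [form_add_smul_right, hr]
  ext i
  simp only [Pi.add_apply, Pi.smul_apply, smul_eq_mul]
  ring

/-- the reflection in a root -/
def refl {δ : ℕ} (r : DP δ) (hr : form r r = -2) : DP δ ≃ₗ[ℤ] DP δ where
  toFun v := v + form r v • r
  map_add' v w := by
    have : form r (v + w) = form r v + form r w := by
      simpa using form_add_smul_right r v w 1
    rw [this, add_smul]; abel
  map_smul' c v := by
    have : form r (c • v) = c * form r v := by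
      have h := form_add_smul_right r 0 v c
      simpa [form] using h
    rw [this, RingHom.id_apply, smul_add, smul_smul]
  invFun v := v + form r v • r
  left_inv := refl_invol hr
  right_inv := refl_invol hr

@[simp] theorem refl_apply {δ : ℕ} (r : DP δ) (hr : form r r = -2) (v : DP δ) :
    refl r hr v = v + form r v • r := rfl

theorem refl_of_orth {δ : ℕ} (r : DP δ) (hr : form r r = -2) (v : DP δ) (h : form r v = 0) :
    refl r hr v = v := by simp [h]

theorem isWeyl_refl {δ : ℕ} (r : DP δ) (hr : IsRoot r) : IsWeyl (refl r hr.1) := by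
  refine ⟨fun v w => ?_, refl_of_orth r hr.1 _ (by rw [form_comm]; exact hr.2)⟩
  simp only [refl_apply]
  rw [form_add_smul_right, form_comm (v + _) w, form_add_smul_right, form_comm (v + _) r,
    form_add_smul_right, hr.1, form_comm w v, form_comm w r]
  ring

theorem isWeyl_refl' {δ : ℕ} : IsWeyl (LinearEquiv.refl ℤ (DP δ)) := ⟨fun _ _ => rfl, rfl⟩

theorem isWeyl_trans {δ : ℕ} {g h : DP δ ≃ₗ[ℤ] DP δ} (hg : IsWeyl g) (hh : IsWeyl h) :
    IsWeyl (g.trans h) :=
  ⟨fun v w => by simp [hh.1, hg.1], by simp [hg.2, hh.2]⟩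

theorem isWeyl_symm {δ : ℕ} {g : DP δ ≃ₗ[ℤ] DP δ} (hg : IsWeyl g) : IsWeyl g.symm := by
  refine ⟨fun v w => ?_, ?_⟩
  · rw [← hg.1, LinearEquiv.apply_symm_apply, LinearEquiv.apply_symm_apply]
  · rw [LinearEquiv.symm_apply_eq, hg.2]

theorem isConic_apply {δ : ℕ} {g : DP δ ≃ₗ[ℤ] DP δ} (hg : IsWeyl g) {v : DP δ} (hv : IsConic v) :
    IsConic (g v) :=
  ⟨by rw [hg.1]; exact hv.1, by rw [← hg.2, hg.1]; exact hv.2⟩

theorem isExc_apply {δ : ℕ} {g : DP δ ≃ₗ[ℤ] DP δ} (hg : IsWeyl g) {v : DP δ} (hv : IsExc v) :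
    IsExc (g v) :=
  ⟨by rw [hg.1]; exact hv.1, by rw [← hg.2, hg.1]; exact hv.2⟩

/-- coordinates from a list -/
def ofL (δ : ℕ) (l : List ℤ) : DP δ := fun i => l.getD i 0

theorem ofFn_ofL {δ : ℕ} {l : List ℤ} (h : l.length = δ + 1) : List.ofFn (ofL δ l) = l := by
  apply List.ext_getElem (by simp [h])
  intro i h1 h2
  simp [ofL, List.getElem?_eq_getElem h2, -List.ofFn_succ]

theorem ofL_ofFn {δ : ℕ} (v : DP δ) : ofL δ (List.ofFn v) = v := by
  funext i
  simp [ofL, -List.ofFn_succ, show (i : ℕ) ≤ δ by omega]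

/-- a list of coordinates of roots -/
def RootList (δ : ℕ) (rs : List (List ℤ)) : Prop :=
  ∀ r ∈ rs, r.length = δ + 1 ∧ lform r r = -2 ∧ lform (List.ofFn (canon δ)) r = 0

instance (δ : ℕ) (rs : List (List ℤ)) : Decidable (RootList δ rs) :=
  inferInstanceAs (Decidable (∀ r ∈ rs, _))

theorem negRoot_mem : ∀ {rs : List (List ℤ)} {x r : List ℤ}, negRoot rs x = some r → r ∈ rs
  | [], x, r, h => by simp [negRoot] at h
  | s :: rs, x, r, h => by
    rw [negRoot] at h
    split_ifs at h with hs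
    · simp at h; simp [h]
    · exact List.mem_cons_of_mem _ (negRoot_mem h)

/-- Descent is realised by a Weyl element fixing everything orthogonal to the roots used. -/
theorem exists_weyl_dom {δ : ℕ} {rs : List (List ℤ)} (hrs : RootList δ rs) : ∀ (n : ℕ) (v : DP δ),
    ∃ g : DP δ ≃ₗ[ℤ] DP δ, IsWeyl g ∧
      (∀ u : DP δ, (∀ r ∈ rs, lform r (List.ofFn u) = 0) → g u = u) ∧
      List.ofFn (g v) = dom rs n (List.ofFn v)
  | 0, v => ⟨LinearEquiv.refl ℤ _, isWeyl_refl', fun _ _ => rfl, rfl⟩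
  | n + 1, v => by
    rw [dom]
    cases h : negRoot rs (List.ofFn v) with
    | none => exact ⟨LinearEquiv.refl ℤ _, isWeyl_refl', fun _ _ => rfl, rfl⟩
    | some r =>
      have hmem := negRoot_mem h
      obtain ⟨hlen, h2, hK⟩ := hrs r hmem
      have hr : List.ofFn (ofL δ r) = r := ofFn_ofL hlen
      rw [← hr, lform_ofFn] at h2 hK
      obtain ⟨g, hg, hfix, hval⟩ := exists_weyl_dom hrs n (refl (ofL δ r) h2 v)
      refine ⟨(refl (ofL δ r) h2).trans g, isWeyl_trans (isWeyl_refl _ ⟨h2, hK⟩) hg, fun u hu => ?_, ?_⟩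
      · rw [LinearEquiv.trans_apply, refl_of_orth _ h2, hfix u hu]
        rw [← lform_ofFn, hr]; exact hu r hmem
      · rw [LinearEquiv.trans_apply, hval, refl_apply, ← axpy_ofFn, ← lform_ofFn, hr]

theorem mem_bRng {x : ℤ} (h1 : -1 ≤ x) (h2 : x ≤ 5) : x ∈ bRng :=
  List.mem_map.mpr ⟨(x + 1).toNat, List.mem_range.mpr (by omega), by rw [Int.subNatNat_eq_coe]; omega⟩

theorem mem_aRng {x : ℤ} (h1 : -1 ≤ x) (h2 : x ≤ 11) : x ∈ aRng :=
  List.mem_map.mpr ⟨(x + 1).toNat, List.mem_range.mpr (by omega), by rw [Int.subNatNat_eq_coe]; omega⟩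

theorem nodup_bRng : bRng.Nodup := by decide
theorem nodup_aRng : aRng.Nodup := by decide

theorem mem_cands : ∀ {n : ℕ} (cs : List Bool) (_ : cs.length = n) (f : Fin n → ℤ) (M S Q : ℤ),
    ∑ i, f i = S → ∑ i, f i * f i = Q → (∀ i, -1 ≤ f i ∧ f i ≤ 5) →
    (∀ i : Fin n, cs.getD i false = true → f i ≤ (Fin.cons M f : Fin (n + 1) → ℤ) i.castSucc) →
    List.ofFn f ∈ cands cs M S Q
  | 0, [], _, f, M, S, Q, hS, hQ, _, _ => by
    simp at hS hQ
    simp [cands, ← hS, ← hQ]
  | n + 1, c :: cs, hlen, f, M, S, Q, hS, hQ, hR, hfl => by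
    have hlen' : cs.length = n := by simpa using hlen
    have hcs : S * S ≤ ((cs.length + 1 : ℕ) : ℤ) * Q := by
      have h := sq_sum_le_card_mul_sum_sq (s := Finset.univ) (f := f)
      simp only [Finset.card_univ, Fintype.card_fin, sq, hS, hQ] at h
      rw [hlen']; exact h
    rw [cands, if_pos hcs, List.mem_flatMap]
    rw [Fin.sum_univ_succ] at hS hQ
    have h0 : f 0 * f 0 ≤ Q := by
      have : 0 ≤ ∑ i : Fin n, f i.succ * f i.succ := Finset.sum_nonneg fun i _ => mul_self_nonneg _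
      linarith
    refine ⟨f 0, List.mem_filter.mpr ⟨mem_bRng (hR 0).1 (hR 0).2, ?_⟩, List.mem_map.mpr
      ⟨List.ofFn fun i => f i.succ, ?_, (List.ofFn_succ (f := f)).symm⟩⟩
    · cases c with
      | false => simpa using h0
      | true => simpa [h0] using hfl 0 (by simp)
    · refine mem_cands cs hlen' _ _ _ _ (by linarith) (by linarith) (fun i => hR i.succ) fun i hi => ?_
      have h := hfl i.succ (by simpa using hi)
      rw [Fin.castSucc_succ, Fin.cons_succ] at h
      refine h.trans (le_of_eq ?_)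
      cases n with
      | zero => exact i.elim0
      | succ m =>
        induction i using Fin.cases with
        | zero => simp
        | succ j => simp

theorem cands_spec : ∀ (cs : List Bool) (M S Q : ℤ) (l : List ℤ), l ∈ cands cs M S Q →
    l.length = cs.length ∧ ∀ {n : ℕ} (f : Fin n → ℤ), List.ofFn f = l → ∑ i, f i = S ∧ ∑ i, f i * f i = Q
  | [], M, S, Q, l, h => by
    rw [cands] at h
    split_ifs at h with h0
    · simp at h
      subst h
      refine ⟨rfl, fun {n} f hf => ?_⟩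
      obtain rfl : n = 0 := by simpa using congrArg List.length hf
      simp [h0.1, h0.2]
    · simp at h
  | c :: cs, M, S, Q, l, h => by
    rw [cands] at h
    split_ifs at h with h0
    · obtain ⟨x, -, hx⟩ := List.mem_flatMap.mp h
      obtain ⟨l', hl', rfl⟩ := List.mem_map.mp hx
      obtain ⟨hlen, hspec⟩ := cands_spec cs _ _ _ l' hl'
      refine ⟨by simp [hlen], fun {n} f hf => ?_⟩
      cases n with
      | zero => simp at hf
      | succ n =>
        rw [List.ofFn_succ, List.cons.injEq] at hf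
        obtain ⟨h1, h2⟩ := hspec _ hf.2
        rw [Fin.sum_univ_succ, Fin.sum_univ_succ, h1, h2, hf.1]
        constructor <;> ring
    · simp at h

theorem pairwise_disjoint_map_cons {l : List ℤ} (hl : l.Nodup) (F : ℤ → List (List ℤ)) :
    l.Pairwise (Function.onFun List.Disjoint fun a => (F a).map (a :: ·)) := by
  refine List.Pairwise.imp ?_ hl
  intro a b hab
  simp only [Function.onFun, List.disjoint_left, List.mem_map]
  rintro _ ⟨l, -, rfl⟩ ⟨l', -, h'⟩
  exact hab (List.cons.inj h').1.symm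

theorem nodup_cands : ∀ (cs : List Bool) (M S Q : ℤ), (cands cs M S Q).Nodup
  | [], M, S, Q => by rw [cands]; split_ifs <;> simp
  | c :: cs, M, S, Q => by
    rw [cands]
    split_ifs
    · rw [List.nodup_flatMap]
      exact ⟨fun x _ => (nodup_cands cs _ _ _).map List.cons_injective,
        pairwise_disjoint_map_cons (nodup_bRng.filter _) _⟩
    · simp

theorem nodup_classes (fl : List Bool) (p q : ℤ) : (classes fl p q).Nodup := by
  rw [classes, List.nodup_flatMap]
  exact ⟨fun x _ => (nodup_cands fl _ _ _).map List.cons_injective,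
    pairwise_disjoint_map_cons nodup_aRng _⟩

theorem form_self {δ : ℕ} (v : DP δ) : form v v = v 0 * v 0 - ∑ i : Fin δ, v i.succ * v i.succ := rfl

theorem form_canon {δ : ℕ} (v : DP δ) : form (canon δ) v = -3 * v 0 + ∑ i : Fin δ, v i.succ := by
  simp [form, canon, Finset.sum_neg_distrib]

/-- `v` is sorted as the flags prescribe -/
def Sorted {δ : ℕ} (fl : List Bool) (v : DP δ) : Prop :=
  ∀ i : Fin δ, fl.getD i false = true → v i.succ ≤ (Fin.cons (0 : ℤ) fun j : Fin δ => v j.succ : Fin (δ + 1) → ℤ) i.castSucc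

theorem mem_classes {δ : ℕ} {fl : List Bool} (hfl : fl.length = δ) {v : DP δ} (hs : Sorted fl v) {p q : ℤ}
    (hp : form v v = p) (hq : form (canon δ) v = q) (ha : -1 ≤ v 0 ∧ v 0 ≤ 11)
    (hb : ∀ i : Fin δ, -1 ≤ v i.succ ∧ v i.succ ≤ 5) :
    List.ofFn v ∈ classes fl p q := by
  rw [form_self] at hp
  rw [form_canon] at hq
  refine List.mem_flatMap.mpr ⟨v 0, mem_aRng ha.1 ha.2, List.mem_map.mpr
    ⟨List.ofFn fun i => v i.succ, mem_cands fl hfl _ _ _ _ (by linarith) (by linarith) hb hs,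
      (List.ofFn_succ (f := v)).symm⟩⟩

theorem classes_spec {δ : ℕ} {fl : List Bool} (hfl : fl.length = δ) {p q : ℤ} {l : List ℤ}
    (h : l ∈ classes fl p q) :
    l.length = δ + 1 ∧ form (ofL δ l) (ofL δ l) = p ∧ form (canon δ) (ofL δ l) = q := by
  obtain ⟨a, -, ha⟩ := List.mem_flatMap.mp h
  obtain ⟨l', hl', rfl⟩ := List.mem_map.mp ha
  obtain ⟨hlen, hspec⟩ := cands_spec fl _ _ _ l' hl'
  have hlen' : (a :: l').length = δ + 1 := by simp [hlen, hfl]
  have hv := ofFn_ofL hlen'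
  rw [List.ofFn_succ, List.cons.injEq] at hv
  obtain ⟨h1, h2⟩ := hspec _ hv.2
  refine ⟨hlen', ?_, ?_⟩
  · rw [form_self, h2, hv.1]; ring
  · rw [form_canon, h1, hv.1]; ring

/-- Cauchy–Schwarz with one coordinate split off -/
theorem cs_split {δ : ℕ} (h8 : δ ≤ 8) (f : Fin δ → ℤ) (i : Fin δ) :
    (∑ j, f j - f i) * (∑ j, f j - f i) ≤ 7 * (∑ j, f j * f j - f i * f i) := by
  classical
  have h := sq_sum_le_card_mul_sum_sq (s := Finset.univ.erase i) (f := f)
  rw [Finset.sum_erase_eq_sub (Finset.mem_univ i), Finset.sum_erase_eq_sub (Finset.mem_univ i),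
    Finset.card_erase_of_mem (Finset.mem_univ i), Finset.card_univ, Fintype.card_fin] at h
  simp only [sq] at h
  refine h.trans (mul_le_mul_of_nonneg_right (by omega) ?_)
  have := Finset.single_le_sum (f := fun j => f j * f j) (fun j _ => mul_self_nonneg _) (Finset.mem_univ i)
  linarith

theorem bounds_conic {δ : ℕ} (h8 : δ ≤ 8) {v : DP δ} (hv : IsConic v) :
    (1 ≤ v 0 ∧ v 0 ≤ 11) ∧ ∀ i : Fin δ, -1 ≤ v i.succ ∧ v i.succ ≤ 5 := by
  obtain ⟨h1, h2⟩ := hv
  rw [form_self] at h1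
  rw [form_canon] at h2
  have hcs := sq_sum_le_card_mul_sum_sq (s := Finset.univ) (f := fun i : Fin δ => v i.succ)
  simp only [Finset.card_univ, Fintype.card_fin, sq] at hcs
  have hδ : (δ : ℤ) ≤ 8 := by exact_mod_cast h8
  have h3 : (δ : ℤ) * ∑ i : Fin δ, v i.succ * v i.succ ≤ 8 * (v 0 * v 0) :=
    mul_le_mul hδ (le_of_eq (by linarith)) (Finset.sum_nonneg fun i _ => mul_self_nonneg _) (by norm_num)
  have ha : 1 ≤ v 0 ∧ v 0 ≤ 11 := by constructor <;> nlinarith
  refine ⟨ha, fun i => ?_⟩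
  have h := cs_split h8 (fun j => v j.succ) i
  rw [show ∑ j : Fin δ, v j.succ = 3 * v 0 - 2 by linarith,
    show ∑ j : Fin δ, v j.succ * v j.succ = v 0 * v 0 by linarith] at h
  constructor <;> nlinarith [sq_nonneg (v 0 - 6)]

theorem bounds_exc {δ : ℕ} (h8 : δ ≤ 8) {v : DP δ} (hv : IsExc v) :
    (-1 ≤ v 0 ∧ v 0 ≤ 7) ∧ ∀ i : Fin δ, -1 ≤ v i.succ ∧ v i.succ ≤ 5 := by
  obtain ⟨h1, h2⟩ := hv
  rw [form_self] at h1
  rw [form_canon] at h2
  have hcs := sq_sum_le_card_mul_sum_sq (s := Finset.univ) (f := fun i : Fin δ => v i.succ)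
  simp only [Finset.card_univ, Fintype.card_fin, sq] at hcs
  have hδ : (δ : ℤ) ≤ 8 := by exact_mod_cast h8
  have h3 : (δ : ℤ) * ∑ i : Fin δ, v i.succ * v i.succ ≤ 8 * (v 0 * v 0 + 1) :=
    mul_le_mul hδ (le_of_eq (by linarith)) (Finset.sum_nonneg fun i _ => mul_self_nonneg _) (by norm_num)
  have ha : -1 ≤ v 0 ∧ v 0 ≤ 7 := by constructor <;> nlinarith
  refine ⟨ha, fun i => ?_⟩
  have h := cs_split h8 (fun j => v j.succ) i
  rw [show ∑ j : Fin δ, v j.succ = 3 * v 0 - 1 by linarith,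
    show ∑ j : Fin δ, v j.succ * v j.succ = v 0 * v 0 + 1 by linarith] at h
  constructor <;> nlinarith [sq_nonneg (v 0 - 3)]

theorem conic_mem {δ : ℕ} (h8 : δ ≤ 8) {fl : List Bool} (hfl : fl.length = δ) {v : DP δ} (hv : IsConic v)
    (hs : Sorted fl v) : List.ofFn v ∈ classes fl 0 (-2) :=
  mem_classes hfl hs hv.1 hv.2 ⟨by linarith [(bounds_conic h8 hv).1.1], (bounds_conic h8 hv).1.2⟩
    (bounds_conic h8 hv).2

theorem exc_mem {δ : ℕ} (h8 : δ ≤ 8) {fl : List Bool} (hfl : fl.length = δ) {v : DP δ} (hv : IsExc v)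
    (hs : Sorted fl v) : List.ofFn v ∈ classes fl (-1) (-1) :=
  mem_classes hfl hs hv.1 hv.2 ⟨(bounds_exc h8 hv).1.1, by linarith [(bounds_exc h8 hv).1.2]⟩
    (bounds_exc h8 hv).2

theorem sorted_free {δ : ℕ} (v : DP δ) : Sorted (free δ) v := by
  intro i hi
  simp [free] at hi

theorem conic_ncard (δ : ℕ) (h8 : δ ≤ 8) :
    {v : DP δ | IsConic v}.ncard = (classes (free δ) 0 (-2)).length := by
  classical
  have hlen : (free δ).length = δ := by simp [free]
  have hinj : Function.Injective (List.ofFn : DP δ → List ℤ) := List.ofFn_injective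
  rw [← Set.ncard_image_of_injective _ hinj, ← List.toFinset_card_of_nodup (nodup_classes (free δ) 0 (-2)),
    ← Set.ncard_coe_finset]
  congr 1
  ext l
  simp only [Set.mem_image, List.coe_toFinset]
  refine ⟨fun ⟨v, hv, h⟩ => h ▸ conic_mem h8 hlen hv (sorted_free v), fun h => ?_⟩
  obtain ⟨hl, h1, h2⟩ := classes_spec hlen h
  exact ⟨ofL δ l, ⟨h1, h2⟩, ofFn_ofL hl⟩

/-- permutation of the exceptional coordinates -/
def permL {δ : ℕ} (σ : Equiv.Perm (Fin δ)) : DP δ ≃ₗ[ℤ] DP δ :=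
  LinearEquiv.funCongrLeft ℤ ℤ (((finSuccEquiv δ).trans (Equiv.optionCongr σ)).trans (finSuccEquiv δ).symm)

@[simp] theorem permL_zero {δ : ℕ} (σ : Equiv.Perm (Fin δ)) (v : DP δ) : permL σ v 0 = v 0 := by
  simp [permL]

@[simp] theorem permL_succ {δ : ℕ} (σ : Equiv.Perm (Fin δ)) (v : DP δ) (i : Fin δ) :
    permL σ v i.succ = v (σ i).succ := by
  simp [permL]

theorem isWeyl_permL {δ : ℕ} (σ : Equiv.Perm (Fin δ)) : IsWeyl (permL σ) := by
  refine ⟨fun v w => ?_, ?_⟩
  · simp only [form, permL_zero, permL_succ]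
    rw [Equiv.sum_comp σ fun i => v i.succ * w i.succ]
  · funext i
    induction i using Fin.cases <;> simp [canon]

/-- Sorting inside the blocks on which all the given classes are constant. -/
theorem exists_perm_sort {δ : ℕ} (us : List (DP δ)) (v : DP δ) :
    ∃ σ : Equiv.Perm (Fin δ), (∀ u ∈ us, permL σ u = u) ∧
      Sorted (flags δ (us.map List.ofFn)) (permL σ v) := by
  classical
  let G := Finset.univ.filter fun σ : Equiv.Perm (Fin δ) => ∀ u ∈ us, permL σ u = u
  have hne : G.Nonempty := ⟨1, Finset.mem_filter.mpr ⟨Finset.mem_univ _, fun u _ => by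
    funext i; induction i using Fin.cases <;> simp⟩⟩
  obtain ⟨σ, hσ, hmax⟩ := Finset.exists_max_image G
    (fun σ => ∑ i : Fin δ, -(i : ℤ) * v (σ i).succ) hne
  simp only [G, Finset.mem_filter, Finset.mem_univ, true_and] at hσ hmax
  refine ⟨σ, hσ, fun i hi => ?_⟩
  by_contra hlt
  rw [not_le] at hlt
  obtain ⟨_ | j, hi'⟩ := i
  · simp [flags, hi'] at hi
  simp [flags, hi'] at hi
  set a : Fin δ := ⟨j, by omega⟩
  set b : Fin δ := ⟨j + 1, hi'⟩
  rw [show (⟨j + 1, hi'⟩ : Fin δ).castSucc = a.succ from rfl, Fin.cons_succ, permL_succ, permL_succ] at hlt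
  have hab : a ≠ b := by simp [a, b]
  have huab : ∀ u ∈ us, u a.succ = u b.succ := fun u hu => by
    have h := hi u hu
    rw [dif_pos (by omega)] at h
    simpa [a, b] using h
  have hτ : ∀ u ∈ us, permL (σ * Equiv.swap a b) u = u := by
    intro u hu
    funext i
    induction i using Fin.cases with
    | zero => simp
    | succ i =>
      have hs : ∀ i, u (σ i).succ = u i.succ := fun i => by
        rw [← permL_succ σ u i, hσ u hu]
      rw [permL_succ, Equiv.Perm.mul_apply, hs]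
      rcases eq_or_ne i a with rfl | hia
      · rw [Equiv.swap_apply_left]; exact (huab u hu).symm
      rcases eq_or_ne i b with rfl | hib
      · rw [Equiv.swap_apply_right]; exact huab u hu
      rw [Equiv.swap_apply_of_ne_of_ne hia hib]
  have h := hmax _ hτ
  rw [← Finset.add_sum_erase _ _ (Finset.mem_univ a), ← Finset.add_sum_erase (Finset.univ.erase a) _
      (Finset.mem_erase.mpr ⟨hab.symm, Finset.mem_univ b⟩)] at h
  conv_rhs at h => rw [← Finset.add_sum_erase _ _ (Finset.mem_univ a),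
    ← Finset.add_sum_erase (Finset.univ.erase a) _ (Finset.mem_erase.mpr ⟨hab.symm, Finset.mem_univ b⟩)]
  rw [Finset.sum_congr rfl (fun i hi => by
    rw [Equiv.Perm.mul_apply, Equiv.swap_apply_of_ne_of_ne (Finset.mem_erase.mp (Finset.mem_of_mem_erase hi)).1
      (Finset.mem_erase.mp hi).1])] at h
  simp only [Equiv.Perm.mul_apply, Equiv.swap_apply_left, Equiv.swap_apply_right] at h
  have hb' : ((b : ℕ) : ℤ) = (a : ℕ) + 1 := by simp [a, b]
  rw [hb'] at h
  nlinarith

/-- Sorting as a Weyl element. -/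
theorem exists_weyl_sort {δ : ℕ} (us : List (DP δ)) (v : DP δ) :
    ∃ g : DP δ ≃ₗ[ℤ] DP δ, IsWeyl g ∧ (∀ u ∈ us, g u = u) ∧
      Sorted (flags δ (us.map List.ofFn)) (g v) := by
  obtain ⟨σ, hσ, hs⟩ := exists_perm_sort us v
  exact ⟨permL σ, isWeyl_permL σ, hσ, hs⟩

theorem rootList_perp {δ : ℕ} (us : List (List ℤ)) (h : RootList δ (simple δ)) :
    RootList δ (perp δ us) := fun r hr => h r (List.mem_filter.mp hr).1

theorem length_flags (δ : ℕ) (us : List (List ℤ)) : (flags δ us).length = δ := by simp [flags]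

/-- Normal form relative to fixed classes: sort, then descend. -/
theorem exists_weyl_normal {δ : ℕ} (hroots : RootList δ (simple δ)) (us : List (DP δ)) (v : DP δ) :
    ∃ (g : DP δ ≃ₗ[ℤ] DP δ) (y : DP δ), IsWeyl g ∧ (∀ u ∈ us, g u = u) ∧
      Sorted (flags δ (us.map List.ofFn)) y ∧
      (∃ h : DP δ ≃ₗ[ℤ] DP δ, IsWeyl h ∧ (∀ u ∈ us, h u = u) ∧ h v = y) ∧
      List.ofFn (g v) = dom (perp δ (us.map List.ofFn)) 100 (List.ofFn y) := by
  obtain ⟨h, hh, hfix, hs⟩ := exists_weyl_sort us v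
  obtain ⟨g, hg, gfix, hval⟩ := exists_weyl_dom (rootList_perp (us.map List.ofFn) hroots) 100 (h v)
  have gfix' : ∀ u ∈ us, g u = u := fun u hu => gfix u fun r hr => by
    have := List.all_eq_true.mp (List.mem_filter.mp hr).2 (List.ofFn u) (List.mem_map_of_mem hu)
    simpa using this
  exact ⟨h.trans g, h v, isWeyl_trans hh hg,
    fun u hu => by rw [LinearEquiv.trans_apply, hfix u hu, gfix' u hu],
    hs, ⟨h, hh, hfix, rfl⟩, by rw [LinearEquiv.trans_apply]; exact hval⟩

end GrothLib.DPLat
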