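import Groth.Agent.Lib.DPLat.Basic

/-!
Orbits of Weyl groups on pairs of conic classes, and on exceptional classes and triples.
-/

namespace GrothLib.DPLat

open W4c3severiratdp

set_option maxRecDepth 4000

/-- normal forms of second conics, by intersection number with the first -/
def conicReps : ℕ → List (ℤ × List ℤ)
  | 2 => [(1, [1, 0, 1]), (0, [1, 1, 0])]
  | 3 => [(1, [1, 0, 1, 0]), (0, [1, 1, 0, 0])]
  | 4 => [(0, [1, 1, 0, 0, 0]), (1, [1, 0, 1, 0, 0])]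
  | 5 => [(0, [1, 1, 0, 0, 0, 0]), (2, [2, 0, 1, 1, 1, 1]), (1, [1, 0, 1, 0, 0, 0])]
  | 6 => [(0, [1, 1, 0, 0, 0, 0, 0]), (2, [2, 0, 1, 1, 1, 1, 0]), (1, [1, 0, 1, 0, 0, 0, 0])]
  | 7 => [(0, [1, 1, 0, 0, 0, 0, 0, 0]), (1, [1, 0, 1, 0, 0, 0, 0, 0]), (2, [2, 0, 1, 1, 1, 1, 0, 0]),
      (4, [5, 1, 2, 2, 2, 2, 2, 2]), (3, [3, 0, 2, 1, 1, 1, 1, 1])]
  | 8 => [(0, [1, 1, 0, 0, 0, 0, 0, 0, 0]), (1, [1, 0, 1, 0, 0, 0, 0, 0, 0]),
      (2, [2, 0, 1, 1, 1, 1, 0, 0, 0]), (4, [5, 1, 2, 2, 2, 2, 2, 2, 0]), (3, [3, 0, 2, 1, 1, 1, 1, 1, 0]),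
      (4, [4, 0, 2, 2, 2, 1, 1, 1, 1]), (5, [5, 0, 2, 2, 2, 2, 2, 2, 1]), (6, [7, 1, 3, 3, 3, 3, 2, 2, 2]),
      (8, [11, 3, 4, 4, 4, 4, 4, 4, 4]), (7, [8, 1, 3, 3, 3, 3, 3, 3, 3])]
  | _ => []

/-- all finite checks needed for `δ` -/
def check (δ : ℕ) : Bool :=
  decide (∀ r ∈ simple δ, r.length = δ + 1 ∧ lform r r = -2 ∧ lform (-3 :: List.replicate δ (-1)) r = 0) &&
  ((classes (flags δ []) 0 (-2)).all fun w => dom (perp δ []) 100 w == conic0 δ) &&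
  ((classes (flags δ [conic0 δ]) 0 (-2)).all fun w =>
    decide ((lform (conic0 δ) w, dom (perp δ [conic0 δ]) 100 w) ∈ conicReps δ))

theorem check2 : check 2 = true := by decide +kernel
theorem check3 : check 3 = true := by decide +kernel
theorem check4 : check 4 = true := by decide +kernel
theorem check5 : check 5 = true := by decide +kernel
theorem check6 : check 6 = true := by decide +kernel
theorem check7 : check 7 = true := by decide +kernel
theorem check8 : check 8 = true := by decide +kernel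

theorem check_all {δ : ℕ} (h2 : 2 ≤ δ) (h8 : δ ≤ 8) : check δ = true := by
  interval_cases δ
  exacts [check2, check3, check4, check5, check6, check7, check8]

theorem ofFn_canon (δ : ℕ) : List.ofFn (canon δ) = -3 :: List.replicate δ (-1) := by
  rw [List.ofFn_succ]
  simp [canon, List.ofFn_const]

theorem rootList_simple {δ : ℕ} (h2 : 2 ≤ δ) (h8 : δ ≤ 8) : RootList δ (simple δ) := by
  have h := check_all h2 h8
  simp only [check, Bool.and_eq_true, decide_eq_true_eq] at h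
  intro r hr
  rw [ofFn_canon]
  exact h.1.1 r hr

/-- Every ordered pair of conic classes is equivalent to a normal form. -/
theorem exists_normal_pair {δ : ℕ} (h2 : 2 ≤ δ) (h8 : δ ≤ 8) (v₁ v₂ : DP δ) (hv₁ : IsConic v₁)
    (hv₂ : IsConic v₂) :
    ∃ g : DP δ ≃ₗ[ℤ] DP δ, IsWeyl g ∧ List.ofFn (g v₁) = conic0 δ ∧
      (form v₁ v₂, List.ofFn (g v₂)) ∈ conicReps δ := by
  have h := check_all h2 h8
  simp only [check, Bool.and_eq_true, decide_eq_true_eq, List.all_eq_true, beq_iff_eq] at h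
  obtain ⟨g₁, y₁, hg₁, -, hs₁, ⟨h₁, hh₁, -, rfl⟩, hval₁⟩ :=
    exists_weyl_normal (rootList_simple h2 h8) [] v₁
  simp only [List.map_nil] at hs₁ hval₁
  rw [h.1.2 _ (conic_mem h8 (length_flags δ []) (isConic_apply hh₁ hv₁) hs₁)] at hval₁
  obtain ⟨g₂, y₂, hg₂, hfix₂, hs₂, ⟨h₂', hh₂, hhfix₂, rfl⟩, hval₂⟩ :=
    exists_weyl_normal (rootList_simple h2 h8) [g₁ v₁] (g₁ v₂)
  simp only [List.map_cons, List.map_nil, hval₁] at hs₂ hval₂
  have hmem := h.2 _ (conic_mem h8 (length_flags δ _) (isConic_apply hh₂ (isConic_apply hg₁ hv₂)) hs₂)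
  refine ⟨g₁.trans g₂, isWeyl_trans hg₁ hg₂, ?_, ?_⟩
  · rw [LinearEquiv.trans_apply, hfix₂ _ (List.mem_singleton_self _)]; exact hval₁
  · rw [← hval₂, ← hval₁, lform_ofFn] at hmem
    rw [LinearEquiv.trans_apply]
    convert hmem using 2
    rw [← hg₁.1 v₁ v₂, ← hh₂.1, hhfix₂ _ (List.mem_singleton_self _)]

theorem pairs_transitive {δ : ℕ} (h2 : 2 ≤ δ) (h8 : δ ≤ 8) {v₁ v₂ w₁ w₂ : DP δ} (hv₁ : IsConic v₁)
    (hv₂ : IsConic v₂) (hw₁ : IsConic w₁) (hw₂ : IsConic w₂) (heq : form v₁ v₂ = form w₁ w₂)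
    (hexc : ¬ (δ = 8 ∧ form v₁ v₂ = 4)) :
    ∃ g : DP δ ≃ₗ[ℤ] DP δ, IsWeyl g ∧ g v₁ = w₁ ∧ g v₂ = w₂ := by
  obtain ⟨g, hg, hg1, hg2⟩ := exists_normal_pair h2 h8 v₁ v₂ hv₁ hv₂
  obtain ⟨h, hh, hh1, hh2⟩ := exists_normal_pair h2 h8 w₁ w₂ hw₁ hw₂
  have hu : ∀ p ∈ conicReps δ, ∀ q ∈ conicReps δ, p.1 = q.1 → ¬ (δ = 8 ∧ p.1 = 4) → p.2 = q.2 := by
    interval_cases δ <;> decide
  have hsnd := hu _ hg2 _ hh2 heq hexc
  refine ⟨g.trans h.symm, isWeyl_trans hg (isWeyl_symm hh), ?_, ?_⟩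
  · rw [LinearEquiv.trans_apply, LinearEquiv.symm_apply_eq]
    exact List.ofFn_injective (hg1.trans hh1.symm)
  · rw [LinearEquiv.trans_apply, LinearEquiv.symm_apply_eq]
    exact List.ofFn_injective hsnd

/-- the first conic `ℓ - e₁` for `δ = 8` -/
def q0 : DP 8 := ofL 8 (conic0 8)
/-- second conic of the two orbits with intersection number four -/
def qA : DP 8 := ofL 8 [5, 1, 2, 2, 2, 2, 2, 2, 0]
/-- second conic of the two orbits with intersection number four -/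
def qB : DP 8 := ofL 8 [4, 0, 2, 2, 2, 1, 1, 1, 1]

theorem pairs_four :
    IsConic q0 ∧ IsConic qA ∧ IsConic qB ∧ form q0 qA = 4 ∧ form q0 qB = 4 ∧
      (¬ ∃ g : DP 8 ≃ₗ[ℤ] DP 8, IsWeyl g ∧ g q0 = q0 ∧ g qA = qB) ∧
      ∀ v₁ v₂ : DP 8, IsConic v₁ → IsConic v₂ → form v₁ v₂ = 4 →
        ∃ g : DP 8 ≃ₗ[ℤ] DP 8, IsWeyl g ∧ ((g v₁ = q0 ∧ g v₂ = qA) ∨ (g v₁ = q0 ∧ g v₂ = qB)) := by
  refine ⟨by unfold IsConic; decide, by unfold IsConic; decide, by unfold IsConic; decide, by decide,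
    by decide, ?_, ?_⟩
  · rintro ⟨g, -, h0, hA⟩
    obtain ⟨z, hz⟩ : ∃ z : DP 8, q0 + qA = z + z := ⟨![3, 1, 1, 1, 1, 1, 1, 1, 0], by decide⟩
    have h := congrArg (fun f : DP 8 => f 0 % 2 = 0 ∧ f 1 % 2 = 0) (map_add g q0 qA)
    have hB : q0 + qB = g z + g z := by rw [← map_add, ← hz, map_add, h0, hA]
    have hodd := congrFun hB 0
    have h5 : (q0 + qB) 0 = 5 := by decide
    rw [h5, Pi.add_apply] at hodd
    omega
  · intro v₁ v₂ hv₁ hv₂ h4
    obtain ⟨g, hg, hg1, hg2⟩ := exists_normal_pair (by norm_num) le_rfl v₁ v₂ hv₁ hv₂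
    rw [h4] at hg2
    have hu : ∀ p ∈ conicReps 8, p.1 = 4 → p.2 = List.ofFn qA ∨ p.2 = List.ofFn qB := by decide
    have h0 : g v₁ = q0 := List.ofFn_injective (hg1.trans (by decide))
    refine ⟨g, hg, ?_⟩
    rcases hu _ hg2 rfl with h | h
    · exact Or.inl ⟨h0, List.ofFn_injective h⟩
    · exact Or.inr ⟨h0, List.ofFn_injective h⟩

/-- `e₈` as a coordinate list -/
def e8L : List ℤ := [0, 0, 0, 0, 0, 0, 0, 0, -1]

/-- normal forms of exceptional classes relative to `e₈` -/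
def excReps : List (ℤ × List ℤ) :=
  [(-1, [0, 0, 0, 0, 0, 0, 0, 0, -1]), (0, [0, 0, 0, 0, 0, 0, 0, -1, 0]),
    (1, [1, 1, 0, 0, 0, 0, 0, 0, 1]), (2, [3, 1, 1, 1, 1, 1, 1, 0, 2]), (3, [6, 2, 2, 2, 2, 2, 2, 2, 3])]

/-- `L - 2K` for `L = e₈` -/
def tgtL : List ℤ := [6, 2, 2, 2, 2, 2, 2, 2, 1]

/-- normal forms of triples relative to `e₈`, first two entries -/
def tripReps : List (List ℤ × List ℤ) :=
  [([0, 0, 0, 0, 0, 0, 0, 0, -1], [0, 0, 0, 0, 0, 0, 0, 0, -1]),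
    ([0, 0, 0, 0, 0, 0, 0, 0, -1], [0, 0, 0, 0, 0, 0, 0, -1, 0]),
    ([0, 0, 0, 0, 0, 0, 0, 0, -1], [1, 1, 0, 0, 0, 0, 0, 0, 1]),
    ([0, 0, 0, 0, 0, 0, 0, -1, 0], [1, 1, 0, 0, 0, 0, 0, 1, 0])]

theorem excCheckA : ((classes (flags 8 []) (-1) (-1)).all fun w => dom (perp 8 []) 100 w == e8L) = true := by
  decide +kernel

theorem excCheckB : ((classes (flags 8 [e8L]) (-1) (-1)).all fun w =>
    decide ((lform e8L w, dom (perp 8 [e8L]) 100 w) ∈ excReps)) = true := by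
  decide +kernel

/-- check for the second member of a triple with first member `r` -/
def tripCheck (r : List ℤ) : Bool :=
  (classes (flags 8 [e8L, r]) (-1) (-1)).all fun w =>
    let c := axpy (-1) r (axpy (-1) w tgtL)
    !(decide (lform e8L r ≤ lform e8L w) && decide (lform e8L w ≤ lform e8L c) && decide (lform c c = -1)) ||
      decide ((r, dom (perp 8 [e8L, r]) 100 w) ∈ tripReps)

theorem tripCheck_all : (excReps.all fun p => tripCheck p.2) = true := by decide +kernel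

/-- `e₈` -/
def e8 : DP 8 := ofL 8 e8L

theorem ofFn_e8 : List.ofFn e8 = e8L := ofFn_ofL rfl

theorem exists_normal_exc {L : DP 8} (hL : IsExc L) :
    ∃ g : DP 8 ≃ₗ[ℤ] DP 8, IsWeyl g ∧ g L = e8 := by
  have h := List.all_eq_true.mp excCheckA
  obtain ⟨g, y, hg, -, hs, ⟨h', hh, -, rfl⟩, hval⟩ :=
    exists_weyl_normal (rootList_simple (δ := 8) (by norm_num) le_rfl) [] L
  simp only [List.map_nil] at hs hval
  have := h _ (exc_mem le_rfl (length_flags 8 []) (isExc_apply hh hL) hs)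
  rw [beq_iff_eq] at this
  exact ⟨g, hg, List.ofFn_injective ((hval.trans this).trans ofFn_e8.symm)⟩

theorem exists_normal_second {x : DP 8} (hx : IsExc x) :
    ∃ g : DP 8 ≃ₗ[ℤ] DP 8, IsWeyl g ∧ g e8 = e8 ∧ (form e8 x, List.ofFn (g x)) ∈ excReps := by
  have h := List.all_eq_true.mp excCheckB
  obtain ⟨g, y, hg, hfix, hs, ⟨h', hh, hhfix, rfl⟩, hval⟩ :=
    exists_weyl_normal (rootList_simple (δ := 8) (by norm_num) le_rfl) [e8] x
  simp only [List.map_cons, List.map_nil, ofFn_e8] at hs hval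
  have := h _ (exc_mem le_rfl (length_flags 8 _) (isExc_apply hh hx) hs)
  rw [decide_eq_true_eq, ← hval, ← ofFn_e8, lform_ofFn] at this
  refine ⟨g, hg, hfix _ (List.mem_singleton_self _), ?_⟩
  rwa [← hh.1 e8 x, hhfix _ (List.mem_singleton_self _)]

theorem exc_transitive {L L₁ L₂ : DP 8} (hL : IsExc L) (hL₁ : IsExc L₁) (hL₂ : IsExc L₂)
    (h : form L₁ L = form L₂ L) : ∃ g : DP 8 ≃ₗ[ℤ] DP 8, IsWeyl g ∧ g L = L ∧ g L₁ = L₂ := by
  obtain ⟨g₀, hg₀, hg₀L⟩ := exists_normal_exc hL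
  obtain ⟨a, ha, hae, ha'⟩ := exists_normal_second (isExc_apply hg₀ hL₁)
  obtain ⟨b, hb, hbe, hb'⟩ := exists_normal_second (isExc_apply hg₀ hL₂)
  have hu : ∀ p ∈ excReps, ∀ q ∈ excReps, p.1 = q.1 → p.2 = q.2 := by decide
  have heq : form e8 (g₀ L₁) = form e8 (g₀ L₂) := by
    rw [← hg₀L, hg₀.1, hg₀.1, form_comm L L₁, form_comm L L₂, h]
  have hab : a (g₀ L₁) = b (g₀ L₂) := List.ofFn_injective (hu _ ha' _ hb' heq)
  refine ⟨(g₀.trans a).trans (g₀.trans b).symm, isWeyl_trans (isWeyl_trans hg₀ ha)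
    (isWeyl_symm (isWeyl_trans hg₀ hb)), ?_, ?_⟩
  · rw [LinearEquiv.trans_apply, LinearEquiv.symm_apply_eq]
    simp only [LinearEquiv.trans_apply, hg₀L, hae, hbe]
  · rw [LinearEquiv.trans_apply, LinearEquiv.symm_apply_eq]
    simp only [LinearEquiv.trans_apply, hab]

/-- the four triples relative to `e₈` -/
def trip (j : Fin 4) : Fin 3 → DP 8 :=
  ![ofL 8 (tripReps[j.val]!).1, ofL 8 (tripReps[j.val]!).2,
    ofL 8 tgtL - ofL 8 (tripReps[j.val]!).1 - ofL 8 (tripReps[j.val]!).2]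

theorem trip_mem_B (j : Fin 4) :
    (∀ i, IsExc (trip j i)) ∧ trip j 0 + trip j 1 + trip j 2 = e8 - 2 • canon 8 := by
  unfold IsExc
  fin_cases j <;> decide

/-- an invariant of triples -/
def inv (L : DP 8) (t : Fin 3 → DP 8) : ℤ := ∑ i, form L (t i) ^ 2

theorem inv_trip_injective : Function.Injective fun j => inv e8 (trip j) := by decide

theorem exists_normal_triple (t : Fin 3 → DP 8) (ht : ∀ i, IsExc (t i))
    (hsum : t 0 + t 1 + t 2 = e8 - 2 • canon 8) :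
    ∃ j, ∃ g : DP 8 ≃ₗ[ℤ] DP 8, IsWeyl g ∧ g e8 = e8 ∧ ∃ σ : Equiv.Perm (Fin 3), ∀ i, g (t (σ i)) = trip j i := by
  classical
  set σ := Tuple.sort fun i => form e8 (t i)
  have hmono : Monotone ((fun i => form e8 (t i)) ∘ σ) := Tuple.monotone_sort _
  have hsum' : t (σ 0) + t (σ 1) + t (σ 2) = e8 - 2 • canon 8 := by
    rw [← Fin.sum_univ_three (fun i => t (σ i)), Equiv.sum_comp σ t, Fin.sum_univ_three, hsum]
  obtain ⟨a, ha, hae, hrep⟩ := exists_normal_second (ht (σ 0))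
  set r := a (t (σ 0)) with hr
  obtain ⟨g, y, hg, hfix, hs, ⟨h, hh, hhfix, rfl⟩, hval⟩ :=
    exists_weyl_normal (rootList_simple (δ := 8) (by norm_num) le_rfl) [e8, r] (a (t (σ 1)))
  simp only [List.map_cons, List.map_nil, ofFn_e8] at hs hval
  have hc := List.all_eq_true.mp (List.all_eq_true.mp tripCheck_all _ hrep) _
    (exc_mem le_rfl (length_flags 8 _) (isExc_apply hh (isExc_apply ha (ht (σ 1)))) hs)
  have hhe : h e8 = e8 := hhfix _ (by simp)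
  have hhr : h r = r := hhfix _ (by simp)
  have htgt : ofL 8 tgtL = e8 - 2 • canon 8 := by decide
  have h3 : h (a (t (σ 2))) = ofL 8 tgtL - h (a (t (σ 1))) - r := by
    have : t (σ 2) = e8 - 2 • canon 8 - t (σ 1) - t (σ 0) := by rw [← hsum']; abel
    simp only [this, map_sub, map_nsmul, hae, ha.2, hhe, hh.2, ← hr, hhr, htgt]
  have hcl : axpy (-1) (List.ofFn r) (axpy (-1) (List.ofFn (h (a (t (σ 1))))) tgtL) =
      List.ofFn (h (a (t (σ 2)))) := by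
    rw [show tgtL = List.ofFn (ofL 8 tgtL) from (ofFn_ofL rfl).symm, axpy_ofFn, axpy_ofFn, h3]
    congr 1
    simp [sub_eq_add_neg]
  have hf : ∀ i, form e8 (h (a (t i))) = form e8 (t i) := fun i => by
    conv_lhs => rw [← hhe, hh.1, ← hae, ha.1]
  have hf0 : form e8 r = form e8 (t (σ 0)) := by conv_lhs => rw [hr, ← hae, ha.1]
  simp only [Bool.or_eq_true, Bool.not_eq_true', decide_eq_true_eq] at hc
  rw [hcl, ← ofFn_e8, lform_ofFn, lform_ofFn, lform_ofFn, lform_ofFn] at hc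
  rcases hc with hc | hc
  · simp only [Bool.and_eq_false_iff, decide_eq_false_iff_not, hf, hf0] at hc
    have h01 := hmono (show (0 : Fin 3) ≤ 1 by decide)
    have h12 := hmono (show (1 : Fin 3) ≤ 2 by decide)
    simp only [Function.comp_apply] at h01 h12
    have := (isExc_apply hh (isExc_apply ha (ht (σ 2)))).1
    tauto
  · rw [ofFn_e8, ← hval] at hc
    have hidx : ∀ p ∈ tripReps, ∃ j : Fin 4, p = tripReps[j.val]! := by decide
    obtain ⟨j, hj⟩ := hidx _ hc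
    have hr' : r = ofL 8 (tripReps[j.val]!).1 := by rw [← hj]; exact (ofL_ofFn r).symm
    have hg' : g (a (t (σ 1))) = ofL 8 (tripReps[j.val]!).2 := by rw [← hj]; exact (ofL_ofFn _).symm
    have hge : g e8 = e8 := hfix _ (by simp)
    have hgr : g r = r := hfix _ (by simp)
    have h2 : t (σ 2) = e8 - 2 • canon 8 - t (σ 0) - t (σ 1) := by rw [← hsum']; abel
    have e0 : g (a (t (σ 0))) = ofL 8 (tripReps[j.val]!).1 := by rw [← hr, hgr]; exact hr'
    have e2 : g (a (t (σ 2))) = ofL 8 tgtL - ofL 8 (tripReps[j.val]!).1 - ofL 8 (tripReps[j.val]!).2 := by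
      simp only [h2, map_sub, map_nsmul, hae, hge, ha.2, hg.2, e0, hg', htgt]
    refine ⟨j, a.trans g, isWeyl_trans ha hg, by simp [hae, hge], σ, fun i => ?_⟩
    fin_cases i
    · exact e0
    · exact hg'
    · exact e2

theorem triples_orbits (L : DP 8) (hL : IsExc L) :
    ∃ r : Fin 4 → (Fin 3 → DP 8),
      (∀ j, (∀ i, IsExc (r j i)) ∧ r j 0 + r j 1 + r j 2 = L - 2 • canon 8) ∧
      (∀ j j', (∃ g : DP 8 ≃ₗ[ℤ] DP 8, IsWeyl g ∧ g L = L ∧ ∃ σ : Equiv.Perm (Fin 3), ∀ i, g (r j (σ i)) = r j' i) → j = j') ∧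
      ∀ t : Fin 3 → DP 8, (∀ i, IsExc (t i)) → t 0 + t 1 + t 2 = L - 2 • canon 8 →
        ∃ j, ∃ g : DP 8 ≃ₗ[ℤ] DP 8, IsWeyl g ∧ g L = L ∧ ∃ σ : Equiv.Perm (Fin 3), ∀ i, g (t (σ i)) = r j i := by
  obtain ⟨a, ha, haL⟩ := exists_normal_exc hL
  have haL' : a.symm e8 = L := by rw [LinearEquiv.symm_apply_eq, haL]
  refine ⟨fun j i => a.symm (trip j i), fun j => ⟨fun i => isExc_apply (isWeyl_symm ha) ((trip_mem_B j).1 i), ?_⟩,
    ?_, fun t ht hsum => ?_⟩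
  · rw [← map_add, ← map_add, (trip_mem_B j).2, map_sub, map_nsmul, haL', (isWeyl_symm ha).2]
  · rintro j j' ⟨g, hg, hgL, σ, hσ⟩
    dsimp only at hσ
    refine inv_trip_injective ?_
    have hf : ∀ i, form e8 (trip j' i) = form e8 (trip j (σ i)) := fun i => by
      rw [← (isWeyl_symm ha).1 e8 (trip j' i), ← hσ i, haL', ← (isWeyl_symm ha).1 e8 (trip j (σ i)), haL']
      conv_lhs => rw [← hgL]
      exact hg.1 _ _
    show inv e8 (trip j) = inv e8 (trip j')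
    simp only [inv, hf]
    exact (Equiv.sum_comp σ fun i => form e8 (trip j i) ^ 2).symm
  · obtain ⟨j, g, hg, hge, σ, hσ⟩ := exists_normal_triple (fun i => a (t i)) (fun i => isExc_apply ha (ht i))
      (by rw [← map_add, ← map_add, hsum, map_sub, map_nsmul, haL, ha.2])
    refine ⟨j, (a.trans g).trans a.symm, isWeyl_trans (isWeyl_trans ha hg) (isWeyl_symm ha), ?_, σ, fun i => ?_⟩
    · simp [haL, hge, haL']
    · simp [hσ i]

end GrothLib.DPLat
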